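import Mathlib.Algebra.Homology.DerivedCategory.RightDerivedFunctorPlus
import Mathlib.CategoryTheory.Functor.Derived.Adjunction
import Mathlib.CategoryTheory.Functor.Derived.PointwiseLeftDerived
import Mathlib.CategoryTheory.Adjunction.Restrict
import Mathlib.Algebra.Homology.ShortComplex.PreservesHomology

/-!
# The derived adjunction of an exact left adjoint on bounded below derived categories

If `F ⊣ G`, `F` exact, then `RF ⊣ RG` on `D^+` (enough injectives on both sides).
-/

set_option autoImplicit false

open CategoryTheory Limits

namespace Groth.Agent.Lib.DerivedAdj.Exact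

universe w₁ w₂ v₁ v₂ u₁ u₂

variable {C : Type u₁} [Category.{v₁} C] [Abelian C] {D : Type u₂} [Category.{v₂} D] [Abelian D]
  {F : C ⥤ D} {G : D ⥤ C} (adj : F ⊣ G) [F.Additive] [G.Additive]

/-- The adjunction on complexes. -/
noncomputable def adjCx :
    F.mapHomologicalComplex (ComplexShape.up ℤ) ⊣ G.mapHomologicalComplex (ComplexShape.up ℤ) :=
  Adjunction.mkOfUnitCounit
    { unit :=
        { app := fun K =>
            { f := fun n => adj.unit.app (K.X n)
              comm' := fun i j _ => (adj.unit.naturality (K.d i j)).symm }
          naturality := fun K L f => by ext n; exact adj.unit.naturality (f.f n) }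
      counit :=
        { app := fun K =>
            { f := fun n => adj.counit.app (K.X n)
              comm' := fun i j _ => (adj.counit.naturality (K.d i j)).symm }
          naturality := fun K L f => by ext n; exact adj.counit.naturality (f.f n) }
      left_triangle := by ext K n; simp; exact adj.left_triangle_components (K.X n)
      right_triangle := by ext K n; simp; exact adj.right_triangle_components (K.X n) }

/-- The adjunction on homotopy categories. -/
noncomputable def adjK :
    F.mapHomotopyCategory (ComplexShape.up ℤ) ⊣ G.mapHomotopyCategory (ComplexShape.up ℤ) :=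
  Adjunction.mkOfUnitCounit
    { unit :=
        { app := fun K => (HomotopyCategory.quotient C _).map ((adjCx adj).unit.app K.as)
          naturality := by
            rintro ⟨K⟩ ⟨L⟩ ⟨f : K ⟶ L⟩
            exact congrArg (HomotopyCategory.quotient C _).map ((adjCx adj).unit.naturality f) }
      counit :=
        { app := fun K => (HomotopyCategory.quotient D _).map ((adjCx adj).counit.app K.as)
          naturality := by
            rintro ⟨K⟩ ⟨L⟩ ⟨f : K ⟶ L⟩
            exact congrArg (HomotopyCategory.quotient D _).map ((adjCx adj).counit.naturality f) }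
      left_triangle := by
        ext ⟨K⟩
        simp only [NatTrans.comp_app, Functor.whiskerRight_app, Functor.associator_hom_app,
          Functor.whiskerLeft_app, Category.id_comp, NatTrans.id_app]
        exact (congrArg (HomotopyCategory.quotient D _).map
          ((adjCx adj).left_triangle_components K)).trans ((HomotopyCategory.quotient D _).map_id _)
      right_triangle := by
        ext ⟨K⟩
        simp only [NatTrans.comp_app, Functor.whiskerRight_app, Functor.associator_inv_app,
          Functor.whiskerLeft_app, Category.id_comp, NatTrans.id_app]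
        exact (congrArg (HomotopyCategory.quotient C _).map
          ((adjCx adj).right_triangle_components K)).trans ((HomotopyCategory.quotient C _).map_id _) }

/-- The adjunction on bounded below homotopy categories. -/
noncomputable def adjKPlus : F.mapHomotopyCategoryPlus ⊣ G.mapHomotopyCategoryPlus :=
  (adjK adj).restrictFullyFaithful (HomotopyCategory.plus C).fullyFaithfulι
    (HomotopyCategory.plus D).fullyFaithfulι (Iso.refl _) (Iso.refl _)

section

variable [HasDerivedCategory.{w₁} C] [HasDerivedCategory.{w₂} D]

omit [G.Additive] in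
theorem isInvertedBy_mapPlus [F.PreservesHomology] :
    (HomotopyCategory.Plus.quasiIso C).IsInvertedBy
      (F.mapHomotopyCategoryPlus ⋙ DerivedCategory.Plus.Qh) := by
  intro K L f hf
  refine Localization.inverts DerivedCategory.Plus.Qh (HomotopyCategory.Plus.quasiIso D) _ ?_
  rw [HomotopyCategory.Plus.quasiIso_iff] at hf ⊢
  obtain ⟨g, hg⟩ := (HomotopyCategory.quotient C _).map_surjective
    (X := K.obj.as) (Y := L.obj.as) f.hom
  change HomotopyCategory.quasiIso D _ ((F.mapHomotopyCategory _).map f.hom)
  rw [← hg] at hf ⊢
  have hg' : QuasiIso g := (HomotopyCategory.quotient_map_mem_quasiIso_iff g).1 hf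
  have : QuasiIso ((F.mapHomologicalComplex _).map g) := inferInstance
  exact (HomotopyCategory.quotient_map_mem_quasiIso_iff _).2 this

variable [EnoughInjectives C] [EnoughInjectives D]

/-- The derived adjunction. -/
noncomputable def derivedAdj [F.PreservesHomology] :
    F.rightDerivedFunctorPlus ⊣ G.rightDerivedFunctorPlus := by
  have hF := isInvertedBy_mapPlus (F := F)
  haveI : IsIso F.rightDerivedFunctorPlusUnit :=
    Functor.isIso_of_isRightDerivedFunctor_of_inverts F.rightDerivedFunctorPlus
      F.rightDerivedFunctorPlusUnit hF
  let e := (asIso F.rightDerivedFunctorPlusUnit).symm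
  let β := G.rightDerivedFunctorPlusUnit
  haveI : F.rightDerivedFunctorPlus.IsLeftDerivedFunctor e.hom (HomotopyCategory.Plus.quasiIso C) :=
    Functor.isLeftDerivedFunctor_of_inverts _ _ e
  haveI : (F.rightDerivedFunctorPlus ⋙ G.rightDerivedFunctorPlus).IsLeftDerivedFunctor
      ((Functor.associator _ _ _).inv ≫ Functor.whiskerRight e.hom G.rightDerivedFunctorPlus)
      (HomotopyCategory.Plus.quasiIso C) :=
    Functor.isLeftDerivedFunctor_of_inverts _ _
      ((Functor.associator _ _ _).symm ≪≫ Functor.isoWhiskerRight e G.rightDerivedFunctorPlus)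
  let δ := Functor.whiskerRight β F.rightDerivedFunctorPlus ≫ (Functor.associator _ _ _).hom
  let R := ((G.mapHomotopyCategoryPlus ⋙ DerivedCategory.Plus.Qh) ⋙
      F.rightDerivedFunctorPlus).totalRightDerived DerivedCategory.Plus.Qh
    (HomotopyCategory.Plus.quasiIso D)
  let γ := ((G.mapHomotopyCategoryPlus ⋙ DerivedCategory.Plus.Qh) ⋙
      F.rightDerivedFunctorPlus).totalRightDerivedUnit DerivedCategory.Plus.Qh
    (HomotopyCategory.Plus.quasiIso D)
  haveI : R.IsRightDerivedFunctor γ (HomotopyCategory.Plus.quasiIso D) := inferInstance
  haveI : IsIso (R.rightDerivedDesc γ (HomotopyCategory.Plus.quasiIso D)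
      (G.rightDerivedFunctorPlus ⋙ F.rightDerivedFunctorPlus) δ) := by
    refine @NatIso.isIso_of_isIso_app _ _ _ _ _ _ _ fun Y => ?_
    obtain ⟨K, ⟨i⟩⟩ := (inferInstance : ((InjectiveObject.ι D).mapHomotopyCategoryPlus ⋙
      DerivedCategory.Plus.Qh).EssSurj).mem_essImage Y
    rw [← NatTrans.isIso_app_iff_of_iso _ i]
    have h := R.rightDerived_fac_app γ (HomotopyCategory.Plus.quasiIso D)
      (G.rightDerivedFunctorPlus ⋙ F.rightDerivedFunctorPlus) δ
      ((InjectiveObject.ι D).mapHomotopyCategoryPlus.obj K)
    haveI : IsIso (γ.app ((InjectiveObject.ι D).mapHomotopyCategoryPlus.obj K)) := inferInstance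
    haveI : IsIso (β.app ((InjectiveObject.ι D).mapHomotopyCategoryPlus.obj K)) := inferInstance
    haveI : IsIso (δ.app ((InjectiveObject.ι D).mapHomotopyCategoryPlus.obj K)) := by
      dsimp [δ]
      infer_instance
    exact IsIso.of_isIso_fac_left h
  haveI : (G.rightDerivedFunctorPlus ⋙ F.rightDerivedFunctorPlus).IsRightDerivedFunctor δ
      (HomotopyCategory.Plus.quasiIso D) :=
    (R.isRightDerivedFunctor_iff_isIso_rightDerivedDesc γ _ _ δ).2 inferInstance
  exact (adjKPlus adj).derived (HomotopyCategory.Plus.quasiIso C) (HomotopyCategory.Plus.quasiIso D)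
    e.hom β

end

end Groth.Agent.Lib.DerivedAdj.Exact
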